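import Mathlib
import Cfsg.Agent.Lib.Sp4e.SL2

/-!
# Group theory for the `2`-local subgroups
-/

set_option autoImplicit false

namespace H98.G4.Lc

open Subgroup

variable {H : Type*} [Group H] [Finite H]

theorem solv_two (h : IsPGroup 2 H) : Group.IsSolvable H := by
  have := h.isNilpotent
  infer_instance

/-- Burnside's transfer theorem together with the odd order theorem -/
theorem burn0 (R : Sylow 2 H) (h : normalizer ((R : Subgroup H) : Set H) ≤ centralizer (R : Subgroup H)) :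
    Group.IsSolvable H := by
  have c := MonoidHom.ker_transferSylow_isComplement' R h
  refine S4.solv_ext (MonoidHom.transferSylow R h) (Cfsg.Agent.S0205.result ?_) (solv_two (R.isPGroup'.to_subgroup _))
  rw [← c.index_eq_card, ← Nat.not_even_iff_odd, even_iff_two_dvd]
  exact R.not_dvd_index

theorem burn1 {Y : Type*} [Group Y] (hs : ¬ Group.IsSolvable H) (R : Sylow 2 H) (f : H →* Y)
    (hf : IsPGroup 2 f.ker) :
    ∃ h, (∀ r ∈ (R : Subgroup H), h * r * h⁻¹ ∈ (R : Subgroup H)) ∧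
      ∃ r ∈ (R : Subgroup H), f h * f r ≠ f r * f h := by
  by_contra hc
  push Not at hc
  have hsu := f.rangeRestrict_surjective
  haveI : Finite f.range := Finite.of_surjective _ hsu
  refine hs (S4.solv_ext f (solv_two hf) (burn0 (R.mapSurjective hsu) fun y hy => ?_))
  obtain ⟨h, rfl⟩ := hsu y
  rw [mem_centralizer_iff]
  rintro _ ⟨r, hr, rfl⟩
  refine Subtype.ext (hc h (fun s hs => ?_) r hr).symm
  obtain ⟨s', hs', e⟩ := (mem_normalizer_iff.1 hy (f.rangeRestrict s)).1 ⟨s, hs, rfl⟩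
  have k : s'⁻¹ * (h * s * h⁻¹) ∈ f.ker := by
    have : f s' = f h * f s * (f h)⁻¹ := congrArg Subtype.val e
    simp [MonoidHom.mem_ker, this, mul_assoc]
  simpa using mul_mem hs' (hf.le_sylow_of_normal R k)

theorem burn {A Y : Type*} [CommMonoid A] [Monoid Y] (hs : ¬ Group.IsSolvable H) (R : Sylow 2 H) (χ : H →* A)
    (hχ : ∀ r ∈ (R : Subgroup H), χ r = 1) (f : H →* Y) (hf : ∀ x, χ x = 1 → f x = 1 → x ^ 4 = 1) :
    ∃ h, χ h = 1 ∧ (∀ r ∈ (R : Subgroup H), h * r * h⁻¹ ∈ (R : Subgroup H)) ∧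
      ∃ r ∈ (R : Subgroup H), f h * f r ≠ f r * f h := by
  have hle : (R : Subgroup H) ≤ χ.toHomUnits.ker := fun r hr => Units.ext (hχ r hr)
  have hs' : ¬ Group.IsSolvable χ.toHomUnits.ker := fun k => hs (S4.solv_ext χ.toHomUnits k inferInstance)
  obtain ⟨h, h1, r, hr, h2⟩ := burn1 hs' (R.subtype hle) (f.toHomUnits.comp (Subgroup.subtype _)) fun x =>
    ⟨2, Subtype.ext (Subtype.ext (hf x.1.1 (congrArg Units.val x.1.2) (congrArg Units.val x.2)))⟩
  exact ⟨h, congrArg Units.val h.2, fun r hr => h1 ⟨r, hle hr⟩ hr, r, hr, fun e => h2 (Units.ext e)⟩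

/-- a normal subgroup of a `2`-group contains a central involution -/
theorem exists_invol {R Q : Subgroup H} (hR : IsPGroup 2 R) (hQ : IsPGroup 2 Q) (h1 : Q ≠ ⊥)
    (hn : ∀ r ∈ R, ∀ q ∈ Q, r * q * r⁻¹ ∈ Q) :
    ∃ t ∈ Q, t ≠ 1 ∧ t * t = 1 ∧ ∀ r ∈ R, r * t = t * r := by
  letI : MulAction R Q :=
    { smul := fun r q => ⟨r * q * r⁻¹, hn r r.2 q q.2⟩
      one_smul := fun q => Subtype.ext (show ((1 : R) : H) * q * ((1 : R) : H)⁻¹ = q by simp)
      mul_smul := fun a b q => Subtype.ext (show ((a * b : R) : H) * q * ((a * b : R) : H)⁻¹ =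
        a * (b * q * (b : H)⁻¹) * (a : H)⁻¹ by simp [mul_assoc]) }
  haveI : Nontrivial Q := (nontrivial_iff_ne_bot Q).2 h1
  obtain ⟨n, hn0, hc⟩ := hQ.nontrivial_iff_card.1 this
  obtain ⟨b, hb, b1⟩ := hR.exists_fixed_point_of_prime_dvd_card_of_fixed_point Q (hc ▸ dvd_pow_self 2 hn0.ne')
    (a := 1) (fun r => Subtype.ext (show (r : H) * (1 : Q) * (r : H)⁻¹ = (1 : Q) by simp))
  have hb' : ∀ r ∈ R, r * b = b * r := fun r hr =>
    mul_inv_eq_iff_eq_mul.1 (congrArg Subtype.val (hb ⟨r, hr⟩))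
  obtain ⟨k, hk⟩ := hQ b
  obtain ⟨m, -, hm⟩ := (Nat.dvd_prime_pow Nat.prime_two).1 (orderOf_dvd_of_pow_eq_one hk)
  cases m with
  | zero => exact absurd (orderOf_eq_one_iff.1 hm).symm b1
  | succ m =>
    refine ⟨(b ^ 2 ^ m : Q), (b ^ 2 ^ m).2, fun e => ?_, ?_, fun r hr => ?_⟩
    · have := orderOf_dvd_of_pow_eq_one (show b ^ 2 ^ m = 1 from Subtype.ext e)
      rw [hm, Nat.pow_dvd_pow_iff_le_right one_lt_two] at this
      omega
    · rw [← Subgroup.coe_mul, ← pow_add, ← two_mul, ← pow_succ', ← hm, pow_orderOf_eq_one]; rfl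
    · exact ((show Commute r (b : H) from hb' r hr).pow_right _).eq

end H98.G4.Lc
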